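import Groth.Prelude.Def_ModSt
import Groth.Agent.Lib.AlgSt.OpenSub
import Groth.Agent.Lib.FlatFP.BaseChangeAt
import Groth.Agent.Lib.FlatFP.InjCokerSheaf
import Groth.Agent.Lib.FittSheaf.PullbackFP

/-!
# The categories of families of modules are fibred in groupoids
-/

set_option autoImplicit false
set_option backward.isDefEq.respectTransparency false
set_option backward.isDefEq.respectTransparency.types false

universe u

open CategoryTheory CategoryTheory.Functor CategoryTheory.Limits AlgebraicGeometry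

namespace GrothLib.ModSt

open _root_.ModSt

/-- A cartesian comparison map factors uniquely, and cartesianly, through another one. -/
theorem existsUnique_cart {Y Z W : Scheme.{u}} {h₁ : Y ⟶ Z} {h₂ : Z ⟶ W} {P : W.Modules} {N : Z.Modules}
    {M : Y.Modules} {c₂ : P ⟶ (Scheme.Modules.pushforward h₂).obj N} (hc₂ : IsCart h₂ c₂)
    {c : P ⟶ (Scheme.Modules.pushforward (h₁ ≫ h₂)).obj M} (hc : IsCart (h₁ ≫ h₂) c) :
    ∃! c₁ : N ⟶ (Scheme.Modules.pushforward h₁).obj M, IsCart h₁ c₁ ∧
      c₂ ≫ (Scheme.Modules.pushforward h₂).map c₁ ≫ (Scheme.Modules.pushforwardComp h₁ h₂).hom.app M = c := by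
  obtain ⟨c₁, hc₁ : c₂ ≫ (Scheme.Modules.pushforward h₂).map c₁ = _⟩ :=
    (hc₂ _).2 (c ≫ (Scheme.Modules.pushforwardComp h₁ h₂).inv.app M)
  have e : c₂ ≫ (Scheme.Modules.pushforward h₂).map c₁ ≫ (Scheme.Modules.pushforwardComp h₁ h₂).hom.app M = c := by
    rw [← Category.assoc, hc₁, Category.assoc, Iso.inv_hom_id_app, Category.comp_id]
  refine ⟨c₁, ⟨fun M' => ?_, e⟩, fun c₁' hc₁' => (hc₂ _).1 ?_⟩
  · let F₁ := fun v : M ⟶ M' => c₁ ≫ (Scheme.Modules.pushforward h₁).map v
    let G := ((Scheme.Modules.pushforwardComp h₁ h₂).app M').homToEquiv ∘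
      fun w : N ⟶ (Scheme.Modules.pushforward h₁).obj M' => c₂ ≫ (Scheme.Modules.pushforward h₂).map w
    have hG : Function.Bijective G := (Equiv.bijective _).comp (hc₂ _)
    have hGF : G ∘ F₁ = fun v : M ⟶ M' => c ≫ (Scheme.Modules.pushforward (h₁ ≫ h₂)).map v := by
      funext v
      simp only [G, F₁, Function.comp_apply, Iso.homToEquiv_apply, Iso.app_hom, ← e, Category.assoc,
        Functor.map_comp]
      rw [← (Scheme.Modules.pushforwardComp h₁ h₂).hom.naturality v]
      rfl
    exact (Function.Bijective.of_comp_iff' hG F₁).mp (hGF ▸ hc M')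
  · change c₂ ≫ (Scheme.Modules.pushforward h₂).map c₁' = c₂ ≫ (Scheme.Modules.pushforward h₂).map c₁
    rw [← cancel_mono ((Scheme.Modules.pushforwardComp h₁ h₂).hom.app M), Category.assoc, Category.assoc,
      hc₁'.2, e]

variable {X S : Scheme.{u}} {f : X ⟶ S}

theorem exists_factor {A B Z : ModSt.Obj f} (φ : A ⟶ B) (θ : Z ⟶ B) (g : Z.base ⟶ A.base)
    (hg : g ≫ φ.base = θ.base) : ∃! χ : Z ⟶ A, χ.base = g ∧ χ ≫ φ = θ := by
  obtain ⟨θb, θt, θp, θq, θc, θcart⟩ := θ
  subst hg
  obtain ⟨t, ht₁, ht₂⟩ : ∃ t : Z.XT ⟶ A.XT, t ≫ φ.top = θt ∧ t ≫ A.q = Z.q ≫ g.left :=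
    ⟨φ.isPullback_top.lift θt (Z.q ≫ g.left) (by rw [θq, Over.comp_left, Category.assoc]),
      IsPullback.lift_fst _ _ _ _, IsPullback.lift_snd _ _ _ _⟩
  subst ht₁
  obtain ⟨c₁, ⟨hc₁, e⟩, hu⟩ := existsUnique_cart φ.cart θcart
  let χ : Z ⟶ A :=
    { base := g
      top := t
      w_p := by rw [← φ.w_p, ← Category.assoc, θp]
      w_q := ht₂
      c := c₁
      cart := hc₁ }
  refine ⟨χ, ⟨rfl, ?_⟩, ?_⟩
  · change ModSt.Obj.Hom.comp χ φ = _
    simp only [ModSt.Obj.Hom.comp, χ]
    congr 1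
  · rintro ⟨b', t', p', q', c', cart'⟩ ⟨hb, he⟩
    obtain rfl : b' = g := hb
    obtain rfl : t' = t := φ.isPullback_top.hom_ext (congrArg ModSt.Obj.Hom.top he) (q'.trans ht₂.symm)
    obtain rfl : c' = c₁ := by
      refine hu c' ⟨cart', ?_⟩
      change ModSt.Obj.Hom.comp _ φ = _ at he
      simp only [ModSt.Obj.Hom.comp] at he
      injection he
    rfl

theorem isFibGrpd_fam (f : X ⟶ S) : _root_.FibCat.IsFibGrpd (ModSt.Fam f).p where
  exists_lift {B V} g := by
    change V ⟶ B.base at g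
    have h := IsPullback.of_hasPullback B.q g.left
    let A : ModSt.Obj f :=
      { base := V
        XT := pullback B.q g.left
        p := pullback.fst B.q g.left ≫ B.p
        q := pullback.snd B.q g.left
        isPullback := Over.w g ▸ h.paste_horiz B.isPullback
        E := (Scheme.Modules.pullback (pullback.fst B.q g.left)).obj B.E }
    let φ : A ⟶ B :=
      { base := g
        top := pullback.fst B.q g.left
        w_p := rfl
        w_q := pullback.condition
        c := (Scheme.Modules.pullbackPushforwardAdjunction (pullback.fst B.q g.left)).unit.app B.E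
        cart := fun M' => by
          have e : (fun v : A.E ⟶ M' =>
              (Scheme.Modules.pullbackPushforwardAdjunction (pullback.fst B.q g.left)).unit.app B.E ≫
                (Scheme.Modules.pushforward (pullback.fst B.q g.left)).map v) =
              (Scheme.Modules.pullbackPushforwardAdjunction (pullback.fst B.q g.left)).homEquiv B.E M' := by
            funext v
            exact (Adjunction.homEquiv_unit _ _ _ _).symm
          rw [e]
          exact Equiv.bijective _ }
    exact ⟨A, φ, IsHomLift.map (ModSt.Fam f).p φ⟩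
  isStronglyCartesian {A B} φ :=
    { toIsHomLift := IsHomLift.map (ModSt.Fam f).p φ
      universal_property' := fun {Z} g θ hθ => by
        change Z.base ⟶ A.base at g
        have : (ModSt.Fam f).p.IsHomLift (g ≫ φ.base) θ := hθ
        have hb : g ≫ φ.base = θ.base :=
          IsHomLift.eq_of_isHomLift (ModSt.Fam f).p (a := Z) (b := B) (g ≫ φ.base) θ
        obtain ⟨χ, ⟨h1, h2⟩, h3⟩ := exists_factor φ θ g hb
        subst h1
        refine ⟨χ, ⟨IsHomLift.map (ModSt.Fam f).p χ, h2⟩, fun χ' ⟨k1, k2⟩ => h3 χ' ⟨?_, k2⟩⟩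
        exact (IsHomLift.eq_of_isHomLift (ModSt.Fam f).p (a := Z) (b := A) χ.base χ').symm }

/-- The pullback of the module along a morphism of families is the source module. -/
theorem nonempty_pullback_iso {A B : ModSt.Obj f} (φ : A ⟶ B) :
    Nonempty ((Scheme.Modules.pullback φ.top).obj B.E ≅ A.E) := by
  let adj := Scheme.Modules.pullbackPushforwardAdjunction φ.top
  let u := (adj.homEquiv B.E A.E).symm φ.c
  have hu : adj.homEquiv B.E A.E u = φ.c := Equiv.apply_symm_apply _ _
  obtain ⟨v, hv : φ.c ≫ _ = _⟩ := (φ.cart _).2 (adj.unit.app B.E)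
  have huv : u ≫ v = 𝟙 _ := (adj.homEquiv B.E _).injective (by
    rw [Adjunction.homEquiv_naturality_right, hu, hv, adj.homEquiv_id])
  refine ⟨⟨u, v, huv, (φ.cart _).1 ?_⟩⟩
  change φ.c ≫ (Scheme.Modules.pushforward φ.top).map (v ≫ u) = φ.c ≫ (Scheme.Modules.pushforward φ.top).map (𝟙 A.E)
  rw [Functor.map_comp, ← Category.assoc, hv, CategoryTheory.Functor.map_id, Category.comp_id, ← hu,
    Adjunction.homEquiv_unit]

theorem isCohObj_of_hom {A B : ModSt.Obj f} (φ : A ⟶ B) (hB : IsCohObj B) : IsCohObj A := by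
  obtain ⟨e⟩ := nonempty_pullback_iso φ
  have hfp : CohB1.IsFP B.E := hB.2
  refine ⟨fun x => ?_, ?_⟩
  · exact (FlatFP.isFlatOverAt_congr A.q e x).mp
      (FlatFP.isFlatOverAt_baseChange B.q A.q φ.top φ.base.left φ.isPullback_top B.E x (hB.1 _))
  · exact (SheafOfModules.isFinitePresentation A.XT.ringCatSheaf).prop_of_iso e (FittSheaf.isFP_pullback φ.top B.E hfp)

theorem isFibGrpd_coh (f : X ⟶ S) : _root_.FibCat.IsFibGrpd (ModSt.Coh f).p :=
  AlgSt.isFibGrpd_fullSub (isFibGrpd_fam f) fun φ h => isCohObj_of_hom φ h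

end GrothLib.ModSt
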