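import Groth.Agent.Lib.ModSt.FibGrpd
import Groth.Agent.Lib.AlgSt.OpenPredChart
import Groth.Agent.Lib.FibModLocus10.LocFree

/-!
# The locally free locus of a family of finitely presented flat modules
-/

set_option autoImplicit false
set_option backward.isDefEq.respectTransparency false
set_option backward.isDefEq.respectTransparency.types false

universe u

open CategoryTheory CategoryTheory.Functor CategoryTheory.Limits AlgebraicGeometry

namespace GrothLib.ModSt

open _root_.ModSt

variable {X S : Scheme.{u}} {f : X ⟶ S}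

/-- Stalkwise freeness of given rank at a point of a family is detected after base change. -/
theorem stalkFree_iff_of_hom [LocallyOfFinitePresentation f] (R : Set ℕ) {A B : ModSt.Obj f} (φ : A ⟶ B)
    (hB : IsCohObj B) (z : A.XT) :
    FibModLocus10.StalkFree R A.E z ↔ FibModLocus10.StalkFree R B.E (φ.top z) := by
  obtain ⟨e⟩ := nonempty_pullback_iso φ
  have hF : CohB1.IsFP B.E := hB.2
  haveI : LocallyOfFinitePresentation B.q := MorphismProperty.of_isPullback B.isPullback inferInstance
  haveI : B.E.IsQuasicoherent := by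
    haveI : B.E.IsFinitePresentation := hF
    infer_instance
  haveI : LocallyOfFinitePresentation (𝟙 B.XT ≫ B.q) := by rw [Category.id_comp]; infer_instance
  haveI := FittSheaf.isQuasicoherent_pullback φ.top B.E
  refine ⟨fun h => ?_, fun h => FibModLocus10.stalkFree_of_iso e (FibModLocus10.stalkFree_pullback φ.top B.E z h)⟩
  have hz := FibModLocus10.stalkFree_of_iso e.symm h
  have hfl : FlatMod.IsFlatOverAt (𝟙 B.XT ≫ B.q) B.E (φ.top z) :=
    (FunFlat6.isFlatOverAt_congr_map (Category.id_comp B.q).symm B.E _).mp (hB.1 _)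
  have hfree : Module.Free (B.XT.presheaf.stalk (φ.top z)) (B.E.presheaf.stalk (φ.top z)) := by
    rw [← CritMod6.isFlatOverAt_id_iff_free B.E hF (φ.top z)]
    exact (CritMod6.isFlatOverAt_baseChange_iff (𝟙 B.XT) B.q B.E hF φ.base.left φ.top A.q φ.isPullback_top φ.top (𝟙 _)
      (by rw [Category.id_comp, Category.id_comp]; exact φ.isPullback_top) (by simp) z hfl).1
        ((CritMod6.isFlatOverAt_id_iff_free _ (FittSheaf.isFP_pullback φ.top B.E hF) z).2 hz.1)
  exact ⟨hfree, by rw [← FibModLocus10.finrank_pullback φ.top B.E z hfree]; exact hz.2⟩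

/-- The open subset of the base over which a family is locally free of given rank. -/
theorem exists_open_base [LocallyOfFinitePresentation f] [IsProper f] (r : ℕ) {B : ModSt.Obj f} (hB : IsCohObj B) :
    ∃ V : B.base.left.Opens, ∀ (A : ModSt.Obj f) (φ : A ⟶ B),
      FlatMod.IsFinLocFreeOfRank r A.E ↔ ∀ t, φ.base.left t ∈ V := by
  haveI : IsProper B.q := MorphismProperty.of_isPullback B.isPullback inferInstance
  haveI : B.E.IsQuasicoherent := by
    haveI : B.E.IsFinitePresentation := hB.2
    infer_instance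
  let N : Set B.XT := {x | FibModLocus10.StalkFree ({r} : Set ℕ) B.E x}ᶜ
  have hN : IsClosed (B.q '' N) := B.q.isClosedMap N (FibModLocus10.isOpen_stalkFree hB.2).isClosed_compl
  refine ⟨⟨(B.q '' N)ᶜ, hN.isOpen_compl⟩, fun A φ => ?_⟩
  have hA := isCohObj_of_hom φ hB
  haveI : A.E.IsQuasicoherent := by
    haveI : A.E.IsFinitePresentation := hA.2
    infer_instance
  rw [FibModLocus10.isFinLocFreeOfRank_iff hA.2]
  constructor
  · intro h t ht
    obtain ⟨x, hx, hxt⟩ := ht
    obtain ⟨z, hz, -⟩ := Scheme.exists_preimage_of_isPullback φ.isPullback_top x t hxt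
    exact hx (hz ▸ (stalkFree_iff_of_hom _ φ hB z).1 (h z))
  · intro h z
    refine (stalkFree_iff_of_hom _ φ hB z).2 ?_
    by_contra hz
    refine h (A.q z) ⟨_, hz, ?_⟩
    rw [← Scheme.Hom.comp_apply, φ.w_q]
    rfl

theorem isOpenImm_subIncl_rank (f : X ⟶ S) [IsProper f] [LocallyOfFinitePresentation f] (r : ℕ) :
    AlgSt.IsOpenImm (AlgSt.subIncl (ModSt.Coh f) fun A => FlatMod.IsFinLocFreeOfRank r A.obj.E) := by
  haveI : ObjectProperty.IsClosedUnderIsomorphisms
      (fun A : (ModSt.Coh f).obj => FlatMod.IsFinLocFreeOfRank r A.obj.E) := ⟨fun {A B} e h => by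
    obtain ⟨i⟩ := nonempty_pullback_iso e.inv.hom
    exact OX.isFinLocFreeOfRank_of_iso i (OX.isFinLocFreeOfRank_pullback _ h)⟩
  refine GrothLib.AlgSt.isOpenImm_subIncl_of_charts fun U y => ?_
  let a₀ : (_root_.FibCat.overCat U).obj := Over.mk (𝟙 U)
  obtain ⟨V, hV⟩ := exists_open_base r (y.obj a₀).property
  have e₀ : (y.obj a₀).obj.base = U := BasedFunctor.w_obj y a₀
  refine ⟨(eqToHom e₀.symm).left ⁻¹ᵁ V, fun a => ?_⟩
  let ψ : a ⟶ a₀ := Over.homMk a.hom (Category.comp_id _)
  have ea : (y.obj a).obj.base = a.left := BasedFunctor.w_obj y a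
  have hψ : (y.map ψ).hom.base = eqToHom ea ≫ a.hom ≫ eqToHom e₀.symm :=
    Functor.congr_hom y.w ψ
  refine (hV _ (y.map ψ).hom).trans ?_
  rw [hψ]
  have hsurj : Function.Surjective (eqToHom ea).left := fun t =>
    ⟨(eqToHom ea.symm).left t, by rw [← Scheme.Hom.comp_apply, ← Over.comp_left, eqToHom_trans, eqToHom_refl]; rfl⟩
  refine ⟨fun h t => ?_, fun h t => h _⟩
  obtain ⟨t', rfl⟩ := hsurj t
  exact h t'

end GrothLib.ModSt
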